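import Groth.Agent.Lib.AVCSA22.MatrixRep
import Groth.Agent.Lib.RedNorm25.Basic
import Mathlib.LinearAlgebra.Eigenspace.Semisimple
import Mathlib.LinearAlgebra.Eigenspace.Zero
import Mathlib.LinearAlgebra.Eigenspace.Minpoly
import Mathlib.LinearAlgebra.Semisimple
import Mathlib.Algebra.DirectSum.LinearMap
import Mathlib.FieldTheory.Perfect
import Mathlib.RingTheory.Norm.Transitivity
import Mathlib.RingTheory.SimpleModule.IsAlgClosed
import Mathlib.FieldTheory.PrimitiveElement

/-!
# Representations of simple algebras through a primitive element of the centre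
-/

open Polynomial Module
open scoped TensorProduct

set_option linter.style.haveILetI false

namespace Groth.Agent.AVCSA22

universe u v w z'

variable {L : Type w} [Field L] [IsAlgClosed L] [CharZero L] {V : Type z'} [AddCommGroup V] [Module L V]
  [FiniteDimensional L V] {K : Type u} [Field K] [Algebra ℚ K] [FiniteDimensional ℚ K]
  {D : Type v} [Ring D] [Algebra K D] [Algebra.IsCentral K D] [IsSimpleRing D] [FiniteDimensional K D]

theorem exists_mult_of_embedding {d : ℕ} (hd : Module.finrank K D = d ^ 2) (σ : K →+* L)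
    (Ψ : D →+* Module.End L V) (hΨ : ∀ (x : K) (v : V), Ψ (algebraMap K D x) v = σ x • v) :
    ∃ e : ℕ, Module.finrank L V = d * e ∧
      (∀ (T : D →+ K), CSAGal.IsRedTrace K D T → ∀ a, LinearMap.trace L V (Ψ a) = e * σ (T a)) ∧
      ∀ (N : D →* K), CSAGal.IsRedNorm K D N → ∀ a, LinearMap.det (Ψ a) = σ (N a) ^ e := by
  letI : Algebra K L := σ.toAlgebra
  haveI := CSAlg.isSimpleRing_baseChange (k := K) L D
  obtain ⟨n, hn, ⟨φ⟩⟩ := IsSimpleRing.exists_algEquiv_matrix_of_isAlgClosed L (L ⊗[K] D)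
  obtain rfl : n = d := by
    have h := φ.toLinearEquiv.finrank_eq
    rw [Module.finrank_baseChange, hd, Module.finrank_matrix] at h
    simp only [Fintype.card_fin, Module.finrank_self, mul_one, ← sq] at h
    exact (Nat.pow_left_injective two_ne_zero h).symm
  letI : Algebra K (Module.End L V) :=
    ((algebraMap L (Module.End L V)).comp σ).toAlgebra' fun c x => Algebra.commutes (σ c) x
  haveI : IsScalarTower K L (Module.End L V) := .of_algebraMap_eq fun _ => rfl
  let g : D →ₐ[K] Module.End L V :=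
    { Ψ with commutes' := fun x => LinearMap.ext fun v => hΨ x v }
  let ψ : Matrix (Fin n) (Fin n) L →ₐ[L] Module.End L V :=
    (Algebra.TensorProduct.lift (Algebra.ofId L (Module.End L V)) g fun x y => Algebra.commutes x (g y)).comp
      φ.symm.toAlgHom
  let F : D →ₐ[K] Matrix (Fin n) (Fin n) L :=
    (φ.toAlgHom.restrictScalars K).comp Algebra.TensorProduct.includeRight
  have hF : ∀ a, Ψ a = ψ (F a) := fun a => by
    simp [ψ, F, g]
  obtain ⟨e, he, hMe⟩ := exists_mult (Nat.pos_of_ne_zero (RedNorm25.degree_ne_zero' hd)) ψ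
  refine ⟨e, he, fun T hT a => ?_, fun N hN a => ?_⟩
  · rw [hF, (hMe (F a)).1, ← RedNorm25.redTrace_spec hT hd F a]
    rfl
  · rw [hF, (hMe (F a)).2, ← RedNorm25.redNorm_spec hN hd F a]
    rfl

theorem exists_mult_of_primitive [Algebra ℚ L] {d : ℕ} (hd : Module.finrank K D = d ^ 2)
    (ρ : D →+* Module.End L V) (z : K) (hz : Algebra.adjoin ℚ {z} = ⊤) (m : ℕ)
    (hchar : (ρ (algebraMap K D z)).charpoly = ((minpoly ℚ z).map (algebraMap ℚ L)) ^ m) :
    ∃ e : ℕ, Module.finrank L V = Module.finrank ℚ K * d * e ∧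
      (∀ (T : D →+ K), CSAGal.IsRedTrace K D T → ∀ a,
        LinearMap.trace L V (ρ a) = algebraMap ℚ L (e * Algebra.trace ℚ K (T a))) ∧
      ∀ (N : D →* K), CSAGal.IsRedNorm K D N → ∀ a,
        LinearMap.det (ρ a) = algebraMap ℚ L (Algebra.norm ℚ (N a) ^ e) := by
  classical
  let g : K →+* Module.End L V := ρ.comp (algebraMap K D)
  set f : Module.End L V := g z with hf
  set m₀ := minpoly ℚ z with hm₀
  have hint : IsIntegral ℚ z := .of_finite ℚ z
  have hq : g.comp (algebraMap ℚ K) = (algebraMap L (Module.End L V)).comp (algebraMap ℚ L) := RingHom.ext_rat _ _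
  have hg : ∀ p : ℚ[X], g (aeval z p) = aeval f (p.map (algebraMap ℚ L)) := fun p => by
    rw [aeval_def, hom_eval₂, hq, ← eval₂_map]
    rfl
  have hsep : (m₀.map (algebraMap ℚ L)).Separable := (minpoly.irreducible hint).separable.map
  have hkill : aeval f (m₀.map (algebraMap ℚ L)) = 0 := by rw [← hg, hm₀, minpoly.aeval, map_zero]
  have hss : f.IsSemisimple := Module.End.isSemisimple_of_squarefree_aeval_eq_zero hsep.squarefree hkill
  let W : (K →ₐ[ℚ] L) → Submodule L V := fun σ => f.eigenspace (σ z)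
  have hinj : Function.Injective fun σ : K →ₐ[ℚ] L => σ z := fun σ τ h =>
    AlgHom.ext_of_adjoin_eq_top hz (fun x hx => by rw [Set.mem_singleton_iff] at hx; subst hx; exact h)
  have hroots : ∀ θ : L, θ ∈ (m₀.map (algebraMap ℚ L)).roots ↔ ∃ σ : K →ₐ[ℚ] L, σ z = θ := fun θ => by
    have h := Set.ext_iff.1 ((Algebra.IsAlgebraic.of_finite ℚ K).range_eval_eq_rootSet_minpoly L z) θ
    rw [Set.mem_range, mem_rootSet_of_ne (minpoly.ne_zero hint)] at h
    rw [h, mem_roots (map_ne_zero (minpoly.ne_zero hint)), IsRoot, eval_map_algebraMap]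
  have hmax : ∀ θ, f.maxGenEigenspace θ = f.eigenspace θ := fun θ =>
    hss.isFinitelySemisimple.maxGenEigenspace_eq_eigenspace θ
  have hdimW : ∀ σ, Module.finrank L (W σ) = m := fun σ => by
    show Module.finrank L (f.eigenspace (σ z)) = m
    rw [← hmax, LinearMap.finrank_maxGenEigenspace_eq, show f.charpoly = _ from hchar, ← count_roots, roots_pow,
      Multiset.count_nsmul, Multiset.count_eq_one_of_mem (nodup_roots hsep) ((hroots _).2 ⟨σ, rfl⟩), mul_one]
  have hint' : DirectSum.IsInternal W := by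
    rw [DirectSum.isInternal_submodule_iff_iSupIndep_and_iSup_eq_top]
    refine ⟨(Module.End.eigenspaces_iSupIndep f).comp hinj, eq_top_iff.2 ?_⟩
    rw [← hss.iSup_eigenspace_eq_top]
    refine iSup_le fun θ => ?_
    by_cases h : f.eigenspace θ = ⊥
    · rw [h]; exact bot_le
    obtain ⟨v, hv, hv0⟩ := (Submodule.ne_bot_iff _).1 h
    have h1 := Module.End.aeval_apply_of_hasEigenvector (p := m₀.map (algebraMap ℚ L)) (f := f) ⟨hv, hv0⟩
    rw [hkill, LinearMap.zero_apply, eq_comm, smul_eq_zero, or_iff_left hv0] at h1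
    obtain ⟨σ, rfl⟩ := (hroots θ).1 (mem_roots'.2 ⟨map_ne_zero (minpoly.ne_zero hint), h1⟩)
    exact le_iSup W σ
  have hscal : ∀ (σ : K →ₐ[ℚ] L) (x : K), ∀ v ∈ W σ, g x v = σ x • v := fun σ x v hv => by
    have hx : x ∈ Algebra.adjoin ℚ {z} := hz ▸ Algebra.mem_top
    rw [Algebra.adjoin_singleton_eq_range_aeval] at hx
    obtain ⟨p, rfl⟩ := hx
    rcases eq_or_ne v 0 with rfl | hv0
    · simp
    show g (aeval z p) v = σ (aeval z p) • v
    rw [hg, Module.End.aeval_apply_of_hasEigenvector ⟨hv, hv0⟩, eval_map_algebraMap, aeval_algHom_apply]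
  have hmaps : ∀ (a : D) (σ : K →ₐ[ℚ] L), Set.MapsTo (ρ a) (W σ) (W σ) := fun a σ v hv => by
    have hc : f * ρ a = ρ a * f := by
      show ρ (algebraMap K D z) * ρ a = ρ a * ρ (algebraMap K D z)
      rw [← map_mul, ← map_mul, Algebra.commutes]
    rw [SetLike.mem_coe, Module.End.mem_eigenspace_iff] at hv ⊢
    rw [← Module.End.mul_apply, hc, Module.End.mul_apply, hv, map_smul]
  let Ψ : ∀ σ : K →ₐ[ℚ] L, D →+* Module.End L (W σ) := fun σ =>
    { toFun := fun a => (ρ a).restrict (hmaps a σ)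
      map_one' := LinearMap.ext fun v => Subtype.ext (by simp [LinearMap.restrict_apply])
      map_mul' := fun a b => LinearMap.ext fun v => Subtype.ext (by simp [LinearMap.restrict_apply])
      map_zero' := LinearMap.ext fun v => Subtype.ext (by simp [LinearMap.restrict_apply])
      map_add' := fun a b => LinearMap.ext fun v => Subtype.ext (by simp [LinearMap.restrict_apply]) }
  have hblock := fun σ : K →ₐ[ℚ] L => exists_mult_of_embedding hd σ.toRingHom (Ψ σ)
    (fun x v => Subtype.ext (hscal σ x v v.2))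
  choose e he htr hdet using hblock
  have hd0 : 0 < d := Nat.pos_of_ne_zero (RedNorm25.degree_ne_zero' hd)
  have hee : ∀ σ, e σ = m / d := fun σ => by
    rw [← hdimW σ, he σ, Nat.mul_div_cancel_left _ hd0]
  let b : ∀ σ, Basis (Fin m) L (W σ) := fun σ => Module.finBasisOfFinrankEq L (W σ) (hdimW σ)
  haveI : ∀ σ, Module.Free L (W σ) := fun σ => Module.Free.of_basis (b σ)
  refine ⟨m / d, ?_, fun T hT a => ?_, fun N hN a => ?_⟩
  · rw [Module.finrank_eq_card_basis (hint'.collectedBasis b)]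
    simp only [Fintype.card_sigma, Fintype.card_fin, Finset.sum_const, Finset.card_univ, smul_eq_mul]
    rw [AlgHom.card ℚ K L, mul_assoc]
    congr 1
    obtain ⟨σ⟩ : Nonempty (K →ₐ[ℚ] L) := ⟨IsAlgClosed.lift⟩
    conv_lhs => rw [← hdimW σ, he σ, hee σ]
  · rw [map_mul, map_natCast, trace_eq_sum_embeddings (E := L), Finset.mul_sum,
      LinearMap.trace_eq_sum_trace_restrict hint' (fun σ => hmaps a σ)]
    refine Finset.sum_congr rfl fun σ _ => ?_
    rw [← hee σ]
    exact htr σ T hT a
  · rw [map_pow, Algebra.norm_eq_prod_embeddings, ← Finset.prod_pow,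
      ← LinearMap.det_toMatrix (hint'.collectedBasis b),
      LinearMap.toMatrix_directSum_collectedBasis_eq_blockDiagonal' hint' hint' b b (fun σ => hmaps a σ)]
    rw [show (∏ σ : K →ₐ[ℚ] L, σ (N a) ^ (m / d)) =
      ∏ σ : K →ₐ[ℚ] L, (LinearMap.toMatrix (b σ) (b σ) ((ρ a).restrict (hmaps a σ))).det from
      Finset.prod_congr rfl fun σ _ => by rw [LinearMap.det_toMatrix, ← hee σ]; exact (hdet σ N hN a).symm,
      ← Matrix.det_blockDiagonal, ← Matrix.det_submatrix_equiv_self
        ((Equiv.prodComm (Fin m) (K →ₐ[ℚ] L)).trans (Equiv.sigmaEquivProd _ _).symm)]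
    congr 1

end Groth.Agent.AVCSA22
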