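import Groth.Agent.Lib.AVCSA22.Subalg
import Groth.Agent.Lib.AVDegree22.IrrMinpoly

/-!
# Simple algebras of endomorphisms of an abelian variety
-/

universe u

open CategoryTheory Limits AlgebraicGeometry MonoidalCategory CartesianMonoidalCategory MonObj
open Polynomial TensorProduct

set_option linter.style.haveILetI false
set_option backward.isDefEq.respectTransparency false

namespace Groth.Agent.AVCSA22

theorem exists_nsmul_eq_one_tmul' {E : Type*} [AddCommGroup E] (x : ℚ ⊗[ℤ] E) :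
    ∃ (N : ℕ) (y : E), N ≠ 0 ∧ N • x = (1 : ℚ) ⊗ₜ[ℤ] y := by
  induction x using TensorProduct.induction_on with
  | zero => exact ⟨1, 0, one_ne_zero, by simp⟩
  | tmul q y =>
    refine ⟨q.den, q.num • y, q.den_nz, ?_⟩
    have h : q.den • q = q.num • (1 : ℚ) := by
      rw [nsmul_eq_mul, zsmul_eq_mul, _root_.mul_one, _root_.mul_comm, Rat.mul_den_eq_num]
    rw [smul_tmul', h, smul_tmul]
  | add x y hx hy =>
    obtain ⟨N, a, hN, ha⟩ := hx
    obtain ⟨M, b, hM, hb⟩ := hy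
    refine ⟨N * M, M • a + N • b, Nat.mul_ne_zero hN hM, ?_⟩
    rw [smul_add, tmul_add, mul_comm N M, mul_smul, ha, mul_comm M N, mul_smul, hb, ← tmul_smul, ← tmul_smul]

theorem exists_natCast_smul_eq_one_tmul {E : Type*} [AddCommGroup E] (x : ℚ ⊗[ℤ] E) :
    ∃ (N : ℕ) (y : E), N ≠ 0 ∧ (N : ℚ) • x = (1 : ℚ) ⊗ₜ[ℤ] y := by
  obtain ⟨N, y, hN, h⟩ := exists_nsmul_eq_one_tmul' x
  exact ⟨N, y, hN, (Nat.cast_smul_eq_nsmul ℚ N x).trans h⟩

variable {k : Type u} [Field k] {A : Over (Spec (CommRingCat.of k))}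
  [GrpObj A] [IsCommMonObj A] [IsProper A.hom] [GeometricallyIntegral A.hom] [IsIntegral A.left]
  (Kf : Type u) [Field Kf] [Algebra k Kf] [IsAlgClosed Kf] {l : ℕ} [Fact l.Prime]

/-- The rational representation on the Tate module over `ℚ_l`-bar. -/
theorem exists_rep (hl : (l : k) ≠ 0) [Module.Free ℤ_[l] (AbDual.TateMod A l (SGA7.pt (K := k) Kf))]
    [Module.Finite ℤ_[l] (AbDual.TateMod A l (SGA7.pt (K := k) Kf))] {g : ℕ} (hg : topologicalKrullDim A.left = g) :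
    ∃ ρ0 : EndAV.End0 A →ₐ[ℚ] Matrix (Fin (2 * g)) (Fin (2 * g)) (AlgebraicClosure ℚ_[l]),
      (∀ α, (ρ0 (EndAV.toEnd0 α)).trace = algebraMap ℚ_[l] _ (algebraMap ℤ_[l] ℚ_[l]
          (LinearMap.trace ℤ_[l] _ (EndAV.End.tateRep l (SGA7.pt (K := k) Kf) α))) ∧
        (ρ0 (EndAV.toEnd0 α)).det = algebraMap ℚ_[l] _ (algebraMap ℤ_[l] ℚ_[l]
          (LinearMap.det (EndAV.End.tateRep l (SGA7.pt (K := k) Kf) α)))) ∧
      ∀ x, ∃ N : ℕ, N ≠ 0 ∧ (Irreducible (minpoly ℚ ((N : ℚ) • x)) →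
        ∃ m, (ρ0 ((N : ℚ) • x)).charpoly =
          ((minpoly ℚ ((N : ℚ) • x)).map (algebraMap ℚ (AlgebraicClosure ℚ_[l]))) ^ m) := by
  classical
  let L := AlgebraicClosure ℚ_[l]
  haveI : CharZero L := charZero_of_injective_algebraMap (algebraMap ℚ_[l] L).injective
  let b := Module.finBasisOfFinrankEq ℤ_[l] (AbDual.TateMod A l (SGA7.pt (K := k) Kf))
    (TateTors22.finrank_tateMod (A := A) Kf l hl hg)
  let Φ : EndAV.End A →+* Matrix (Fin (2 * g)) (Fin (2 * g)) L :=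
    (Algebra.ofId ℤ_[l] L).mapMatrix.toRingHom.comp
      ((LinearMap.toMatrixAlgEquiv b).toAlgHom.toRingHom.comp (EndAV.End.tateRep (A := A) l (SGA7.pt (K := k) Kf)))
  have hΦ : ∀ n : ℤ, Φ (algebraMap ℤ (EndAV.End A) n) = algebraMap ℤ (Matrix (Fin (2 * g)) (Fin (2 * g)) L) n :=
    fun n => by
      rw [eq_intCast (algebraMap ℤ (EndAV.End A)), eq_intCast (algebraMap ℤ (Matrix (Fin (2 * g)) (Fin (2 * g)) L)), map_intCast]
  let Φa : EndAV.End A →ₐ[ℤ] Matrix (Fin (2 * g)) (Fin (2 * g)) L := { Φ with commutes' := hΦ }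
  let ρ0 : EndAV.End0 A →ₐ[ℚ] Matrix (Fin (2 * g)) (Fin (2 * g)) L :=
    Algebra.TensorProduct.lift (Algebra.ofId ℚ _) Φa fun q y => Algebra.commutes q (Φa y)
  have hρ0 : ∀ α, ρ0 (EndAV.toEnd0 α) = Φ α := fun α => by
    rw [EndAV.toEnd0_apply, Algebra.TensorProduct.lift_tmul, map_one, _root_.one_mul]
    rfl
  refine ⟨ρ0, fun α => ⟨?_, ?_⟩, fun x => ?_⟩
  · rw [hρ0, ← IsScalarTower.algebraMap_apply, LinearMap.trace_eq_matrix_trace ℤ_[l] b]
    exact (AddMonoidHom.map_trace (algebraMap ℤ_[l] L).toAddMonoidHom _).symm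
  · rw [hρ0, ← IsScalarTower.algebraMap_apply, ← LinearMap.det_toMatrix b]
    exact (RingHom.map_det _ _).symm
  · skip
    obtain ⟨N, φ, hN, hφ⟩ := exists_natCast_smul_eq_one_tmul x
    refine ⟨N, hN, fun hirr => ?_⟩
    rw [hφ, ← EndAV.toEnd0_apply] at hirr ⊢
    obtain ⟨P, hPc, hPμ⟩ := AVDegree22.exists_charpoly_eq_minpoly_pow Kf hl hg φ hirr
    refine ⟨2 * g / (minpoly ℚ (EndAV.toEnd0 φ)).natDegree, ?_⟩
    rw [← Polynomial.map_pow, ← hPμ, Polynomial.map_map, hρ0]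
    show ((LinearMap.toMatrix b b (EndAV.End.tateRep (A := A) l (SGA7.pt (K := k) Kf) φ)).map
      (algebraMap ℤ_[l] L)).charpoly = _
    rw [Matrix.charpoly_map, LinearMap.charpoly_toMatrix, hPc, Polynomial.map_map]
    exact congrArg (P.map ·) (RingHom.ext_int _ _)

/-- The product of the degree of the centre and the degree of a simple algebra of endomorphisms divides `2 g`. -/
theorem dvd_two_mul_dim (hl : (l : k) ≠ 0) [Module.Free ℤ_[l] (AbDual.TateMod A l (SGA7.pt (K := k) Kf))]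
    [Module.Finite ℤ_[l] (AbDual.TateMod A l (SGA7.pt (K := k) Kf))] {g : ℕ} (hg : topologicalKrullDim A.left = g)
    (D : Subalgebra ℚ (EndAV.End0 A)) (hD : IsSimpleRing D) [Module.Finite ℚ D]
    (f d : ℕ) (hf : Module.finrank ℚ (Subalgebra.center ℚ D) = f) (hd : Module.finrank ℚ D = d ^ 2 * f) :
    f * d ∣ 2 * g := by
  haveI : CharZero (AlgebraicClosure ℚ_[l]) := charZero_of_injective_algebraMap (algebraMap ℚ_[l] (AlgebraicClosure ℚ_[l])).injective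
  obtain ⟨ρ0, -, hρ⟩ := exists_rep Kf hl hg
  exact dvd_of_subalgebra ρ0 hρ D hD f d hf hd

/-- The dimension is divisible by `f d`, and traces and determinants are given by the reduced ones. -/
theorem exists_mult_end0 (hl : (l : k) ≠ 0) [Module.Free ℤ_[l] (AbDual.TateMod A l (SGA7.pt (K := k) Kf))]
    [Module.Finite ℤ_[l] (AbDual.TateMod A l (SGA7.pt (K := k) Kf))] {g : ℕ} (hg : topologicalKrullDim A.left = g)
    (D : Subalgebra ℚ (EndAV.End0 A)) [IsSimpleRing D] (K : Type u) [Field K] [Algebra ℚ K] [FiniteDimensional ℚ K]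
    [Algebra K D] [Algebra.IsCentral K D] [FiniteDimensional K D] {d : ℕ} (hd : Module.finrank K D = d ^ 2) :
    ∃ e : ℕ, 2 * g = Module.finrank ℚ K * d * e ∧
      ∀ (α : EndAV.End A) (hα : EndAV.toEnd0 α ∈ D),
        (∀ T : D →+ K, CSAGal.IsRedTrace K D T →
          algebraMap ℤ_[l] ℚ_[l] (LinearMap.trace ℤ_[l] _ (EndAV.End.tateRep l (SGA7.pt (K := k) Kf) α)) =
            algebraMap ℚ ℚ_[l] ((e : ℚ) * Algebra.trace ℚ K (T ⟨EndAV.toEnd0 α, hα⟩))) ∧
        ∀ N : D →* K, CSAGal.IsRedNorm K D N →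
          algebraMap ℤ_[l] ℚ_[l] (LinearMap.det (EndAV.End.tateRep l (SGA7.pt (K := k) Kf) α)) =
            algebraMap ℚ ℚ_[l] (Algebra.norm ℚ (N ⟨EndAV.toEnd0 α, hα⟩) ^ e) := by
  haveI : CharZero (AlgebraicClosure ℚ_[l]) := charZero_of_injective_algebraMap (algebraMap ℚ_[l] (AlgebraicClosure ℚ_[l])).injective
  obtain ⟨ρ0, hρt, hρ⟩ := exists_rep Kf hl hg
  obtain ⟨e, he, htr, hdet⟩ := exists_mult_subalgebra ρ0 hρ D K hd
  refine ⟨e, he, fun α hα => ⟨fun T hT => ?_, fun N' hN' => ?_⟩⟩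
  · apply (algebraMap ℚ_[l] (AlgebraicClosure ℚ_[l])).injective
    rw [← (hρt α).1, htr T hT ⟨_, hα⟩, eq_ratCast (algebraMap ℚ ℚ_[l]), map_ratCast,
      ← eq_ratCast (algebraMap ℚ (AlgebraicClosure ℚ_[l]))]
  · apply (algebraMap ℚ_[l] (AlgebraicClosure ℚ_[l])).injective
    rw [← (hρt α).2, hdet N' hN' ⟨_, hα⟩, eq_ratCast (algebraMap ℚ ℚ_[l]), map_ratCast,
      ← eq_ratCast (algebraMap ℚ (AlgebraicClosure ℚ_[l]))]

end Groth.Agent.AVCSA22

namespace Groth.Agent.AVCSA22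

theorem finite_end0 {k : Type u} [Field k] (A : Over (Spec (CommRingCat.of k)))
    [GrpObj A] [IsCommMonObj A] [IsProper A.hom] [GeometricallyIntegral A.hom] : Module.Finite ℚ (EndAV.End0 A) := by
  haveI : Module.Finite ℤ (EndAV.End A) := TateTors22.finite_hom (A := A) (B := A)
  exact inferInstanceAs (Module.Finite ℚ (ℚ ⊗[ℤ] EndAV.End A))

end Groth.Agent.AVCSA22
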