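import Mathlib.LinearAlgebra.Matrix.Transvection
import Mathlib.LinearAlgebra.Trace
import Mathlib.LinearAlgebra.Determinant
import Mathlib.LinearAlgebra.Projection
import Mathlib.RingTheory.Finiteness.Basic

/-!
# Traces and determinants in a representation of a matrix algebra
-/

open Matrix

set_option linter.style.haveILetI false

namespace Groth.Agent.AVCSA22

variable {L : Type*} [Field L] [CharZero L] {W : Type*} [AddCommGroup W] [Module L W] [FiniteDimensional L W]

theorem det_one_add_smul_of_idempotent (P : Module.End L W) (hP : P * P = P) (b : L) :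
    LinearMap.det (1 + b • P) = (1 + b) ^ Module.finrank L (LinearMap.range P) := by
  have h := LinearMap.IsIdempotentElem.isProj_range P hP
  set p := LinearMap.range P
  set e := Submodule.prodEquivOfIsCompl p (LinearMap.ker P) h.isCompl
  have hc := h.eq_conj_prodMap
  have : (1 : Module.End L W) + b • P =
      e.conj (LinearMap.prodMap ((1 + b) • LinearMap.id) LinearMap.id) := by
    conv_lhs => rw [hc]
    rw [show (1 : Module.End L W) = e.conj LinearMap.id by rw [LinearEquiv.conj_id]; rfl,
      ← map_smul, ← map_add]
    congr 1
    apply LinearMap.ext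
    rintro ⟨x, y⟩
    simp [add_smul]
  rw [this, LinearEquiv.conj_apply, LinearMap.comp_assoc, LinearMap.det_conj, LinearMap.det_prodMap, LinearMap.det_smul, LinearMap.det_id, LinearMap.det_id,
    mul_one, mul_one]

/-- A representation of a matrix algebra is a multiple of the standard one, for traces and determinants. -/
theorem exists_mult {d : ℕ} (hd : 0 < d) (ψ : Matrix (Fin d) (Fin d) L →ₐ[L] Module.End L W) :
    ∃ e : ℕ, Module.finrank L W = d * e ∧
      ∀ M, LinearMap.trace L W (ψ M) = e * M.trace ∧ LinearMap.det (ψ M) = M.det ^ e := by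
  classical
  let i₀ : Fin d := ⟨0, hd⟩
  let E : Fin d → Fin d → Matrix (Fin d) (Fin d) L := fun i j => single i j 1
  let e := Module.finrank L (LinearMap.range (ψ (E i₀ i₀)))
  have hmul : ∀ i j k, E i j * E j k = E i k := fun i j k => by simp [E, single_mul_single_same]
  have hne : ∀ i j k l, j ≠ k → E i j * E k l = 0 := fun i j k l h => by simp [E, single_mul_single_of_ne, h]
  have hidem : ∀ i, ψ (E i i) * ψ (E i i) = ψ (E i i) := fun i => by rw [← map_mul, hmul]
  have htr0 : LinearMap.trace L W (ψ (E i₀ i₀)) = (e : L) :=
    (LinearMap.IsIdempotentElem.isProj_range _ (hidem i₀)).trace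
  have htr : ∀ i, LinearMap.trace L W (ψ (E i i)) = (e : L) := fun i => by
    rw [← htr0, ← hmul i i₀ i, map_mul, LinearMap.trace_mul_comm, ← map_mul, hmul]
  have htr' : ∀ i j, i ≠ j → LinearMap.trace L W (ψ (E i j)) = 0 := fun i j h => by
    rw [← hmul i j j, map_mul, LinearMap.trace_mul_comm, ← map_mul, hne j j i j (Ne.symm h), map_zero, map_zero]
  have hrank : ∀ i, Module.finrank L (LinearMap.range (ψ (E i i))) = e := fun i =>
    Nat.cast_injective (R := L) (((LinearMap.IsIdempotentElem.isProj_range _ (hidem i)).trace).symm.trans (htr i))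
  have hM : ∀ M : Matrix (Fin d) (Fin d) L, LinearMap.trace L W (ψ M) = e * M.trace := fun M => by
    conv_lhs => rw [matrix_eq_sum_single M]
    simp only [map_sum]
    rw [Matrix.trace, Finset.mul_sum]
    refine Finset.sum_congr rfl fun i _ => ?_
    rw [Finset.sum_eq_single i]
    · rw [show single i i (M i i) = M i i • E i i by simp [E, smul_single], map_smul, map_smul, htr, smul_eq_mul,
        mul_comm, Matrix.diag]
    · intro j _ hj
      rw [show single i j (M i j) = M i j • E i j by simp [E, smul_single], map_smul, map_smul, htr' i j (Ne.symm hj),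
        smul_zero]
    · simp
  have hdim : Module.finrank L W = d * e := by
    apply Nat.cast_injective (R := L)
    rw [← LinearMap.trace_one L W, ← map_one ψ, hM, Matrix.trace_one, Fintype.card_fin, Nat.cast_mul, mul_comm]
  refine ⟨e, hdim, fun M => ⟨hM M, ?_⟩⟩
  induction M using diagonal_transvection_induction with
  | hdiag D hD =>
    clear hD
    let f : (Fin d → L) →* L := (LinearMap.det (M := W)).comp (ψ.toRingHom.toMonoidHom.comp (diagonalRingHom (Fin d) L).toMonoidHom)
    let g : (Fin d → L) →* L :=
      { toFun := fun c => (∏ i, c i) ^ e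
        map_one' := by simp
        map_mul' := fun c c' => by simp [Finset.prod_mul_distrib, mul_pow] }
    have key : ∀ i a, f (Pi.mulSingle i a) = g (Pi.mulSingle i a) := fun i a => by
      show LinearMap.det (ψ (diagonal (Pi.mulSingle i a))) = (∏ j, (Pi.mulSingle i a : Fin d → L) j) ^ e
      rw [show diagonal (Pi.mulSingle i a) = 1 + (a - 1) • E i i by
        ext p q
        rcases eq_or_ne p q with rfl | h
        · rcases eq_or_ne p i with rfl | h'
          · simp [E]
          · simp [E, h', Ne.symm h']
        · rw [diagonal_apply_ne _ h, Matrix.add_apply, one_apply_ne h, Matrix.smul_apply]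
          simp [E, Matrix.single_apply_of_ne, show ¬(i = p ∧ i = q) from fun h' => h (h'.1.symm.trans h'.2)],
        map_add, map_one, map_smul, det_one_add_smul_of_idempotent _ (hidem i), hrank, Finset.prod_pi_mulSingle']
      simp
    have hfg : f = g := MonoidHom.ext fun c => by
      rw [← Finset.univ_prod_mulSingle c, map_prod, map_prod]
      exact Finset.prod_congr rfl fun i _ => key i (c i)
    rw [det_diagonal]
    exact DFunLike.congr_fun hfg D
  | htransvec t =>
    rw [TransvectionStruct.det, one_pow]
    obtain ⟨i, j, hij, c⟩ := t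
    show LinearMap.det (ψ (1 + single i j c)) = 1
    let h : L → L := fun c => LinearMap.det (ψ (1 + c • E i j))
    let u : Matrix (Fin d) (Fin d) L := 1 + E i i
    let v : Matrix (Fin d) (Fin d) L := 1 + (-(1/2) : L) • E i i
    have huv : u * v = 1 := by
      simp only [u, v, add_mul, mul_add, one_mul, mul_one, Algebra.mul_smul_comm, hmul]
      module
    have hconj : u * (1 + c • E i j) * v = 1 + (2 * c) • E i j := by
      have h1 : E i i * v = (1 / 2 : L) • E i i := by
        simp only [v, mul_add, mul_one, Algebra.mul_smul_comm, hmul]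
        module
      have h2 : E i j * v = E i j := by
        simp only [v, mul_add, mul_one, Algebra.mul_smul_comm, hne i j i i hij.symm, smul_zero, add_zero]
      have h3 : u * E i j = (2 : L) • E i j := by
        simp only [u, add_mul, one_mul, hmul]
        module
      rw [mul_add u, add_mul (u * 1), mul_one, huv, Algebra.mul_smul_comm, h3, smul_smul, mul_comm c, Algebra.smul_mul_assoc, h2]
    have hsq : (1 + c • E i j) * (1 + c • E i j) = 1 + (2 * c) • E i j := by
      simp only [add_mul, mul_add, one_mul, mul_one, Algebra.smul_mul_assoc, Algebra.mul_smul_comm,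
        hne i j i j hij.symm, smul_zero, add_zero]
      module
    have e1 : h c * h c = h c := by
      show LinearMap.det _ * LinearMap.det _ = _
      rw [← map_mul, ← map_mul, hsq, ← hconj, map_mul, map_mul, map_mul, map_mul]
      rw [mul_comm (LinearMap.det (ψ u)) _, mul_assoc, ← map_mul (LinearMap.det (M := W)) (ψ u), ← map_mul ψ u, huv, map_one, map_one, mul_one]
    have hne0 : h c ≠ 0 := by
      intro h0
      have : h c * h (-c) = 1 := by
        show LinearMap.det _ * LinearMap.det _ = _
        rw [← map_mul, ← map_mul]
        simp [mul_add, add_mul, hne i j i j hij.symm]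
      rw [h0, zero_mul] at this
      exact zero_ne_one this
    rw [show single i j c = c • E i j by simp [E, smul_single]]
    exact mul_eq_left₀ hne0 |>.1 e1
  | hmul A B hA hB => rw [map_mul, map_mul, hA, hB, det_mul, mul_pow]

end Groth.Agent.AVCSA22
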