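import Groth.Agent.Lib.AVCSA22.Decomp
import Mathlib.Algebra.Algebra.Hom.Rat
import Mathlib.RingTheory.SimpleRing.Field

/-!
# Simple subalgebras of a represented algebra
-/

universe u v w

open Polynomial

set_option linter.style.haveILetI false

namespace Groth.Agent.AVCSA22

/-- If every element has, up to a scalar, characteristic polynomial a power of its minimal polynomial whenever the latter is irreducible,
then simple subalgebras act through multiples of their reduced traces and norms. -/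
theorem exists_mult_subalgebra {R : Type v} [Ring R] [Algebra ℚ R] {L : Type w} [Field L] [IsAlgClosed L] [CharZero L]
    [Algebra ℚ L] {n : ℕ} (ρ0 : R →ₐ[ℚ] Matrix (Fin n) (Fin n) L)
    (hρ : ∀ x : R, ∃ N : ℕ, N ≠ 0 ∧ (Irreducible (minpoly ℚ ((N : ℚ) • x)) →
      ∃ m, (ρ0 ((N : ℚ) • x)).charpoly = ((minpoly ℚ ((N : ℚ) • x)).map (algebraMap ℚ L)) ^ m))
    (D : Subalgebra ℚ R) [IsSimpleRing D] (K : Type u) [Field K] [Algebra ℚ K] [FiniteDimensional ℚ K]
    [Algebra K D] [Algebra.IsCentral K D] [FiniteDimensional K D] {d : ℕ} (hd : Module.finrank K D = d ^ 2) :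
    ∃ e : ℕ, n = Module.finrank ℚ K * d * e ∧
      (∀ T : D →+ K, CSAGal.IsRedTrace K D T → ∀ x : D,
        (ρ0 x).trace = algebraMap ℚ L ((e : ℚ) * Algebra.trace ℚ K (T x))) ∧
      ∀ N : D →* K, CSAGal.IsRedNorm K D N → ∀ x : D,
        (ρ0 x).det = algebraMap ℚ L (Algebra.norm ℚ (N x) ^ e) := by
  let ρ : D →+* Module.End L (Fin n → L) :=
    (Matrix.toLinAlgEquiv' : _ ≃ₐ[L] _).toAlgHom.toRingHom.comp (ρ0.toRingHom.comp D.val.toRingHom)
  let j : K →ₐ[ℚ] R := (D.val.toRingHom.comp (algebraMap K D)).toRatAlgHom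
  haveI : Nontrivial R := (Subtype.val_injective : Function.Injective ((↑) : D → R)).nontrivial
  obtain ⟨z₀, hz₀⟩ := Field.exists_primitive_element ℚ K
  have hz₀' : Algebra.adjoin ℚ {z₀} = ⊤ := by
    rw [← IntermediateField.adjoin_simple_toSubalgebra_of_isAlgebraic (Algebra.IsAlgebraic.isAlgebraic z₀), hz₀]
    rfl
  obtain ⟨N, hN, hNm⟩ := hρ (j z₀)
  obtain ⟨z, hzdef⟩ : ∃ z : K, z = (N : ℚ) • z₀ := ⟨_, rfl⟩
  have hN' : (N : ℚ) ≠ 0 := Nat.cast_ne_zero.2 hN
  have hz : Algebra.adjoin ℚ {z} = ⊤ := by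
    rw [eq_top_iff, ← hz₀', Algebra.adjoin_le_iff]
    intro x hx
    rw [Set.mem_singleton_iff] at hx
    have h : x = (N : ℚ)⁻¹ • z := by rw [hx, hzdef, smul_smul, inv_mul_cancel₀ hN', one_smul]
    rw [SetLike.mem_coe, h]
    exact Subalgebra.smul_mem _ (Algebra.subset_adjoin (Set.mem_singleton z)) _
  have hjz : j z = (N : ℚ) • j z₀ := by rw [hzdef, map_smul]
  rw [← hjz, minpoly.algHom_eq j j.toRingHom.injective z] at hNm
  obtain ⟨m, hm⟩ := hNm (minpoly.irreducible (.of_finite ℚ z))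
  have hchar : (ρ (algebraMap K D z)).charpoly = ((minpoly ℚ z).map (algebraMap ℚ L)) ^ m := by
    show (Matrix.toLin' (ρ0 (j z))).charpoly = _
    rw [Matrix.charpoly_toLin', hm]
  obtain ⟨e, he, htr, hdet⟩ := exists_mult_of_primitive hd ρ z hz m hchar
  rw [Module.finrank_fin_fun] at he
  refine ⟨e, he, fun T hT x => ?_, fun N' hN'' x => ?_⟩
  · rw [← htr T hT x]
    show _ = LinearMap.trace L _ (Matrix.toLin' (ρ0 x))
    rw [Matrix.trace_toLin'_eq]
  · rw [← hdet N' hN'' x]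
    show _ = LinearMap.det (Matrix.toLin' (ρ0 x))
    rw [LinearMap.det_toLin']

end Groth.Agent.AVCSA22

namespace Groth.Agent.AVCSA22

theorem dvd_of_field {R : Type v} [Ring R] [Algebra ℚ R] {L : Type w} [Field L] [IsAlgClosed L] [CharZero L]
    [Algebra ℚ L] {n : ℕ} (ρ0 : R →ₐ[ℚ] Matrix (Fin n) (Fin n) L)
    (hρ : ∀ x : R, ∃ N : ℕ, N ≠ 0 ∧ (Irreducible (minpoly ℚ ((N : ℚ) • x)) →
      ∃ m, (ρ0 ((N : ℚ) • x)).charpoly = ((minpoly ℚ ((N : ℚ) • x)).map (algebraMap ℚ L)) ^ m))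
    (D : Subalgebra ℚ R) [IsSimpleRing D] [Module.Finite ℚ D] (K : Type u) [Field K] [Algebra ℚ K] [FiniteDimensional ℚ K]
    [Algebra K D] [Algebra.IsCentral K D] (f d : ℕ) (hf : Module.finrank ℚ K = f) (hd : Module.finrank ℚ D = d ^ 2 * f) :
    f * d ∣ n := by
  haveI : IsScalarTower ℚ K D := IsScalarTower.of_algebraMap_eq' (RingHom.ext_rat _ _)
  haveI : FiniteDimensional K D := Module.Finite.of_restrictScalars_finite ℚ K D
  have hdd : Module.finrank K D = d ^ 2 := by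
    have h := Module.finrank_mul_finrank ℚ K D
    rw [hf, hd, mul_comm (d ^ 2)] at h
    exact Nat.eq_of_mul_eq_mul_left (hf ▸ Module.finrank_pos) h
  obtain ⟨e, he, -⟩ := exists_mult_subalgebra ρ0 hρ D K hdd
  exact ⟨e, by rw [he, hf]⟩

/-- The product of the degree of the centre and the degree of a simple subalgebra divides the size of the representation. -/
theorem dvd_of_subalgebra {R : Type v} [Ring R] [Algebra ℚ R] {L : Type w} [Field L] [IsAlgClosed L] [CharZero L]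
    [Algebra ℚ L] {n : ℕ} (ρ0 : R →ₐ[ℚ] Matrix (Fin n) (Fin n) L)
    (hρ : ∀ x : R, ∃ N : ℕ, N ≠ 0 ∧ (Irreducible (minpoly ℚ ((N : ℚ) • x)) →
      ∃ m, (ρ0 ((N : ℚ) • x)).charpoly = ((minpoly ℚ ((N : ℚ) • x)).map (algebraMap ℚ L)) ^ m))
    (D : Subalgebra ℚ R) (hD : IsSimpleRing D) [Module.Finite ℚ D]
    (f d : ℕ) (hf : Module.finrank ℚ (Subalgebra.center ℚ D) = f) (hd : Module.finrank ℚ D = d ^ 2 * f) :
    f * d ∣ n := by
  haveI := hD
  have hfld : IsField (Subalgebra.center ℚ D) := IsSimpleRing.isField_center D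
  letI : Field (Subalgebra.center ℚ D) := hfld.toField
  letI : Algebra (Subalgebra.center ℚ D) D :=
    (Subalgebra.center ℚ D).val.toRingHom.toAlgebra' fun c x => (Subalgebra.mem_center_iff.1 c.2 x).symm
  haveI : IsScalarTower ℚ (Subalgebra.center ℚ D) D := IsScalarTower.of_algebraMap_eq' (RingHom.ext_rat _ _)
  haveI : Algebra.IsCentral (Subalgebra.center ℚ D) D := ⟨fun x hx => by
    rw [Subalgebra.mem_center_iff] at hx
    exact Algebra.mem_bot.2 ⟨⟨x, Subalgebra.mem_center_iff.2 hx⟩, rfl⟩⟩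
  haveI : FiniteDimensional ℚ (Subalgebra.center ℚ D) :=
    inferInstanceAs (FiniteDimensional ℚ (Subalgebra.toSubmodule (Subalgebra.center ℚ D)))
  exact dvd_of_field ρ0 hρ D (Subalgebra.center ℚ D) f d hf hd

end Groth.Agent.AVCSA22
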